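import Groth.Agent.CDLim.Basic
import Groth.Agent.Weighting.LimLC
import Groth.Agent.S1440

/-!
Being completely decomposed descends along limits of affine schemes.
-/

set_option autoImplicit false
set_option backward.isDefEq.respectTransparency false
set_option linter.style.haveILetI false
universe u

open CategoryTheory CategoryTheory.Limits AlgebraicGeometry TensorProduct Topology

namespace Groth.Agent.CDLim

variable {X₀ Y₀ : Scheme.{u}} {f₀ : X₀ ⟶ Y₀} {U : Y₀.Opens} (hU : IsAffineOpen U) [LocallyOfFinitePresentation f₀]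

include hU in
theorem exists_constructible_nhd {Y : Scheme.{u}} [IsAffine Y] {e : Y ⟶ Y₀} (he : (⊤ : Y.Opens) ≤ e ⁻¹ᵁ U)
    {y : Y} (h : Dec f₀ e y) : ∃ C : Set Y, IsConstructible C ∧ y ∈ C ∧ ∀ z ∈ C, Dec f₀ e z := by
  classical
  obtain ⟨V, hV, hVU, ψ, hψ⟩ := exists_hom_of_dec hU he y h
  let ev := (Y.evaluation ⊤ y trivial).hom
  letI := (e.appLE U ⊤ he).hom.toAlgebra
  letI := (f₀.appLE U V hVU).hom.toAlgebra
  letI : Algebra Γ(Y, ⊤) (Y.residueField y) := ev.toAlgebra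
  letI : Algebra Γ(Y₀, U) (Y.residueField y) := (ev.comp (e.appLE U ⊤ he).hom).toAlgebra
  haveI : IsScalarTower Γ(Y₀, U) Γ(Y, ⊤) (Y.residueField y) := IsScalarTower.of_algebraMap_eq fun _ => rfl
  haveI : Algebra.FinitePresentation Γ(Y₀, U) Γ(X₀, V) := f₀.finitePresentation_appLE hU hV hVU
  let Θ : Γ(Y, ⊤) ⊗[Γ(Y₀, U)] Γ(X₀, V) →ₐ[Γ(Y, ⊤)] Y.residueField y :=
    Algebra.TensorProduct.lift (Algebra.ofId _ _) { ψ with commutes' := hψ } fun _ _ => Commute.all _ _
  let q := RingHom.ker Θ.toRingHom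
  haveI : q.IsPrime := RingHom.ker_isPrime _
  have hq : ∀ a, a ∈ q.comap (algebraMap Γ(Y, ⊤) _) ↔ ev a = 0 := fun a => by
    rw [Ideal.mem_comap]
    show Θ (algebraMap _ _ a) = 0 ↔ _
    rw [AlgHom.commutes]
    rfl
  obtain ⟨f, I, hf, ⟨g, hg⟩, hIp, ⟨σ⟩⟩ := S1440.exists_alg (A := Γ(Y, ⊤)) q fun b => by
    obtain ⟨a, s, hs, has⟩ := exists_fraction (isAffineOpen_top Y) (y := y) trivial (Θ b)
    refine ⟨a, s, fun h0 => hs ((hq s).mp h0), ?_⟩
    show Θ (_ * b - _) = 0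
    rw [map_sub, map_mul, AlgHom.commutes, AlgHom.commutes, sub_eq_zero]
    exact has
  refine ⟨(Y.basicOpen f : Set Y) \ ⋃ x ∈ g, (Y.basicOpen x : Set Y), ?_, ⟨?_, ?_⟩, fun z hz => ?_⟩
  · refine (((isAffineOpen_top Y).basicOpen f).isCompact.isConstructible (Y.basicOpen f).isOpen).sdiff ?_
    exact (g.isCompact_biUnion fun x _ => ((isAffineOpen_top Y).basicOpen x).isCompact).isConstructible
      (isOpen_biUnion fun x _ => (Y.basicOpen x).isOpen)
  · exact (Y.evaluation_ne_zero_iff_mem_basicOpen (U := ⊤) y trivial f).mp fun h0 => hf ((hq f).mpr h0)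
  · simp only [Set.mem_iUnion₂, not_exists]
    intro x hx
    refine (Y.evaluation_eq_zero_iff_notMem_basicOpen (U := ⊤) y trivial x).mp ((hq x).mp (hIp ?_))
    exact hg ▸ Ideal.subset_span hx
  have hI : ∀ a ∈ I, (Y.evaluation ⊤ z trivial).hom a = 0 := by
    intro a ha
    have hle : I ≤ RingHom.ker (Y.evaluation ⊤ z trivial).hom := by
      rw [← hg]
      exact Ideal.span_le.mpr fun x hx => (Y.evaluation_eq_zero_iff_notMem_basicOpen (U := ⊤) z trivial x).mpr
        fun hzx => hz.2 (Set.mem_iUnion₂.mpr ⟨x, hx, hzx⟩)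
    exact hle ha
  let π := Ideal.Quotient.lift I (Y.evaluation ⊤ z trivial).hom hI
  have hu : IsUnit (π (Ideal.Quotient.mk I f)) := by
    rw [Ideal.Quotient.lift_mk]
    exact Ne.isUnit ((Y.evaluation_ne_zero_iff_mem_basicOpen (U := ⊤) z trivial f).mpr hz.1)
  let φ : Localization.Away (Ideal.Quotient.mk I f) →+* Y.residueField z :=
    IsLocalization.Away.lift (Ideal.Quotient.mk I f) hu
  refine dec_of_hom hU hV hVU he z
    ((φ.comp σ.toRingHom).comp (Algebra.TensorProduct.includeRight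
      (R := Γ(Y₀, U)) (A := Γ(Y, ⊤)) (B := Γ(X₀, V))).toRingHom) fun a => ?_
  show φ (σ ((1 : Γ(Y, ⊤)) ⊗ₜ[Γ(Y₀, U)] (algebraMap Γ(Y₀, U) Γ(X₀, V) a))) = _
  rw [show (1 : Γ(Y, ⊤)) ⊗ₜ[Γ(Y₀, U)] (algebraMap Γ(Y₀, U) Γ(X₀, V) a) =
      algebraMap Γ(Y, ⊤) _ (algebraMap Γ(Y₀, U) Γ(Y, ⊤) a) from
    ((Algebra.TensorProduct.includeRight (R := Γ(Y₀, U)) (A := Γ(Y, ⊤)) (B := Γ(X₀, V))).commutes a).trans
      (IsScalarTower.algebraMap_apply _ _ _ a),
    AlgHom.commutes, IsScalarTower.algebraMap_apply Γ(Y, ⊤) (Γ(Y, ⊤) ⧸ I) (Localization.Away _),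
    IsLocalization.Away.lift_eq, Ideal.Quotient.algebraMap_eq, Ideal.Quotient.lift_mk]
  rfl

variable {J : Type u} [SmallCategory J] [IsCofiltered J] (E : J ⥤ Scheme.{u}) (d : Cone E) (hd : IsLimit d)
  [∀ j, IsAffine (E.obj j)] (e : ∀ j, E.obj j ⟶ Y₀) (hcomp : ∀ {j k : J} (p : j ⟶ k), E.map p ≫ e k = e j)
  (he : ∀ j, (⊤ : (E.obj j).Opens) ≤ e j ⁻¹ᵁ U)

omit [LocallyOfFinitePresentation f₀] [IsCofiltered J] [∀ j, IsAffine (E.obj j)] in
include hcomp in
theorem Dec.map {j k : J} (p : j ⟶ k) {z : E.obj j} (h : Dec f₀ (e k) (E.map p z)) : Dec f₀ (e j) z :=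
  h.comp _ (hcomp p)

include hU hd hcomp he in
theorem exists_stage_dec (y : d.pt) (h : ∀ j, Dec f₀ (d.π.app j ≫ e j) y) :
    ∃ j, Dec f₀ (e j) (d.π.app j y) := by
  classical
  haveI := Weighting.isAffine_pt E d hd
  haveI : ∀ {i j} (f : i ⟶ j), IsAffineHom (E.map f) := fun f => inferInstance
  obtain ⟨j₀⟩ := IsCofiltered.nonempty (C := J)
  have heL : (⊤ : d.pt.Opens) ≤ (d.π.app j₀ ≫ e j₀) ⁻¹ᵁ U := fun _ _ => he j₀ trivial
  obtain ⟨V, hV, hVU, ψ, hψ⟩ := exists_hom_of_dec hU heL y (h j₀)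
  letI := (f₀.appLE U V hVU).hom.toAlgebra
  haveI : Algebra.FinitePresentation Γ(Y₀, U) Γ(X₀, V) := f₀.finitePresentation_appLE hU hV hVU
  obtain ⟨g, hg⟩ := (inferInstance : Algebra.FiniteType Γ(Y₀, U) Γ(X₀, V)).out
  choose a s hs has using fun x => exists_fraction (isAffineOpen_top d.pt) (y := y) trivial (ψ x)
  choose ia a' ha' using fun x => exists_appTop_π_eq_of_isLimit E d hd (a x)
  choose is' s' hs' using fun x => exists_appTop_π_eq_of_isLimit E d hd (s x)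
  obtain ⟨j, hj⟩ := IsCofiltered.inf_objs_exists (insert j₀ (g.image ia ∪ g.image is'))
  refine ⟨j, ?_⟩
  let ι := ((d.π.app j).residueFieldMap y).hom
  have hev : ∀ {i : J} (q : j ⟶ i) (r : Γ(E.obj i, ⊤)),
      d.pt.evaluation ⊤ y trivial ((d.π.app i).appTop r) ∈ Set.range ι := by
    intro i q r
    refine ⟨(E.obj j).evaluation ⊤ (d.π.app j y) trivial ((E.map q).appTop r), ?_⟩
    show (d.π.app j).residueFieldMap y _ = _
    rw [Scheme.Γevaluation_naturality_apply]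
    show d.pt.evaluation ⊤ y trivial (((E.map q).appTop ≫ (d.π.app j).appTop) r) = _
    rw [← Scheme.Hom.comp_appTop, d.w q]
    rfl
  obtain ⟨p⟩ := hj (Finset.mem_insert_self j₀ _)
  have hbase : ∀ b, d.pt.evaluation ⊤ y trivial ((d.π.app j₀ ≫ e j₀).appLE U ⊤ heL b) =
      ι ((E.obj j).evaluation ⊤ (d.π.app j y) trivial ((e j).appLE U ⊤ (he j) b)) := by
    intro b
    have e1 : d.π.app j₀ ≫ e j₀ = d.π.app j ≫ e j := by rw [← d.w p, Category.assoc, hcomp]
    have e2 : (d.π.app j₀ ≫ e j₀).appLE U ⊤ heL = (e j).appLE U ⊤ (he j) ≫ (d.π.app j).appLE ⊤ ⊤ le_top := by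
      rw [Scheme.Hom.appLE_comp_appLE]
      congr 1
    rw [e2]
    exact evaluation_appLE (U := ⊤) (V := ⊤) (d.π.app j) le_top (y := y) trivial _
  let L : Subring (d.pt.residueField y) := ι.range
  have hmem : ∀ x, ψ x ∈ L := by
    intro x
    have hx : x ∈ Algebra.adjoin Γ(Y₀, U) (g : Set Γ(X₀, V)) := hg ▸ Algebra.mem_top
    induction hx using Algebra.adjoin_induction with
    | mem x hx =>
      obtain ⟨qa⟩ := hj (Finset.mem_insert_of_mem (Finset.mem_union_left _ (Finset.mem_image_of_mem ia hx)))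
      obtain ⟨qs⟩ := hj (Finset.mem_insert_of_mem (Finset.mem_union_right _ (Finset.mem_image_of_mem is' hx)))
      obtain ⟨va, hva⟩ := hev qa (a' x)
      obtain ⟨vs, hvs⟩ := hev qs (s' x)
      rw [← ha'] at hva
      rw [← hs'] at hvs
      refine ⟨va / vs, ?_⟩
      rw [map_div₀, hva, hvs, div_eq_iff (hs x), mul_comm]
      exact (has x).symm
    | algebraMap b => exact ⟨_, ((hψ b).trans (hbase b)).symm⟩
    | add x y _ _ hx hy => rw [map_add]; exact L.add_mem hx hy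
    | mul x y _ _ hx hy => rw [map_mul]; exact L.mul_mem hx hy
  let eq : (E.obj j).residueField (d.π.app j y) ≃+* L :=
    RingEquiv.ofBijective ι.rangeRestrict ⟨fun a b hab => ι.injective (congrArg Subtype.val hab), ι.rangeRestrict_surjective⟩
  refine dec_of_hom hU hV hVU (he j) _ (eq.symm.toRingHom.comp (ψ.codRestrict L hmem)) fun b => ?_
  apply ι.injective
  show ((eq (eq.symm _) : L) : d.pt.residueField y) = _
  rw [RingEquiv.apply_symm_apply]
  exact (hψ b).trans (hbase b)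

include hU hd hcomp he in
theorem exists_stage_all (h : ∀ (y : d.pt) (j : J), Dec f₀ (d.π.app j ≫ e j) y) :
    ∃ j, ∀ z : E.obj j, Dec f₀ (e j) z := by
  classical
  haveI := Weighting.isAffine_pt E d hd
  choose i hi using fun y => exists_stage_dec hU E d hd e hcomp he y (h y)
  choose C hC hyC hCdec using fun y => exists_constructible_nhd hU (he (i y)) (hi y)
  obtain ⟨S, hS⟩ := Weighting.exists_finite_constructible_cover (S := (Set.univ : Set d.pt))
    (by rw [Set.compl_univ]; letI := constructibleTopology d.pt; exact isOpen_empty)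
    (fun x => d.π.app (i x.1) ⁻¹' C x.1) (fun x => Scheme.Hom.isConstructible_preimage _ (hC _)) (fun x => hyC _)
  obtain ⟨k, hk⟩ := IsCofiltered.inf_objs_exists (S.image fun x => i x.1)
  let q : ∀ x ∈ S, k ⟶ i x.1 := fun x hx => (hk (Finset.mem_image_of_mem (fun x => i x.1) hx)).some
  let Ct : Set (E.obj k) := ⋃ x : S, E.map (q x.1 x.2) ⁻¹' C x.1.1
  have hCt : IsConstructible Ct :=
    IsConstructible.iUnion fun x => Scheme.Hom.isConstructible_preimage _ (hC _)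
  have hempty : d.π.app k ⁻¹' Ctᶜ = ∅ := by
    refine Set.eq_empty_iff_forall_notMem.mpr fun y hy => hy ?_
    obtain ⟨x, hx, hxy⟩ := Set.mem_iUnion₂.1 (hS (Set.mem_univ y))
    refine Set.mem_iUnion.mpr ⟨⟨x, hx⟩, ?_⟩
    have := Set.ext_iff.1 (Weighting.preimage_π E d (q x hx) (C x.1)) y
    exact this.mpr hxy
  obtain ⟨l, r, hr⟩ := Weighting.exists_preimage_eq_empty E d hd hCt.compl hempty
  refine ⟨l, fun z => Dec.map E e hcomp r ?_⟩
  have hz : E.map r z ∈ Ct := by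
    by_contra hz
    exact Set.eq_empty_iff_forall_notMem.mp hr z hz
  obtain ⟨x, hx⟩ := Set.mem_iUnion.mp hz
  exact Dec.map E e hcomp (q x.1 x.2) (hCdec x.1.1 _ hx)

end Groth.Agent.CDLim
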