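import Mathlib

/-!
Points over which a morphism has a point with trivial residue field extension.
-/

set_option autoImplicit false
set_option backward.isDefEq.respectTransparency false
set_option linter.style.haveILetI false
universe u

open CategoryTheory CategoryTheory.Limits AlgebraicGeometry TensorProduct

namespace Groth.Agent.CDLim

variable {X₀ Y₀ : Scheme.{u}} (f₀ : X₀ ⟶ Y₀) {Y Y' : Scheme.{u}}

/-- `f₀` acquires a rational point over `y` after pulling back along `e`. -/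
def Dec (e : Y ⟶ Y₀) (y : Y) : Prop :=
  ∃ t : Spec (Y.residueField y) ⟶ X₀, t ≫ f₀ = Y.fromSpecResidueField y ≫ e

variable {f₀}

theorem Dec.comp {e : Y ⟶ Y₀} (g : Y' ⟶ Y) {e' : Y' ⟶ Y₀} (he : g ≫ e = e') {y : Y'}
    (h : Dec f₀ e (g y)) : Dec f₀ e' y := by
  obtain ⟨t, ht⟩ := h
  refine ⟨Spec.map (g.residueFieldMap y) ≫ t, ?_⟩
  rw [Category.assoc, ht, Scheme.Hom.SpecMap_residueFieldMap_fromSpecResidueField_assoc, he]

theorem Dec.of_openImmersion {e : Y ⟶ Y₀} (g : Y' ⟶ Y) [IsOpenImmersion g] {y : Y'}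
    (h : Dec f₀ (g ≫ e) y) : Dec f₀ e (g y) := by
  obtain ⟨t, ht⟩ := h
  refine ⟨Spec.map (inv (g.residueFieldMap y)) ≫ t, ?_⟩
  rw [Category.assoc, ht, ← Scheme.Hom.SpecMap_residueFieldMap_fromSpecResidueField_assoc,
    ← Spec.map_comp_assoc, IsIso.hom_inv_id, Spec.map_id, Category.id_comp]

theorem dec_of_point {X : Scheme.{u}} {f : X ⟶ Y} {pX : X ⟶ X₀} {e : Y ⟶ Y₀}
    (w : pX ≫ f₀ = f ≫ e) {x : X} {y : Y} (hy : f x = y)
    (hb : Function.Bijective (f.residueFieldMap x)) : Dec f₀ e y := by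
  subst hy
  haveI : IsIso (f.residueFieldMap x) := (ConcreteCategory.isIso_iff_bijective _).2 hb
  refine ⟨Spec.map (inv (f.residueFieldMap x)) ≫ X.fromSpecResidueField x ≫ pX, ?_⟩
  rw [Category.assoc, Category.assoc, w, ← Scheme.Hom.SpecMap_residueFieldMap_fromSpecResidueField_assoc,
    ← Spec.map_comp_assoc, IsIso.hom_inv_id, Spec.map_id, Category.id_comp]

theorem exists_point {X : Scheme.{u}} {f : X ⟶ Y} {pX : X ⟶ X₀} {e : Y ⟶ Y₀}
    (H : IsPullback pX f f₀ e) {y : Y} (h : Dec f₀ e y) :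
    ∃ x : X, f x = y ∧ Function.Bijective (f.residueFieldMap x) := by
  obtain ⟨t, ht⟩ := h
  let s : Spec (Y.residueField y) ⟶ X := H.lift t (Y.fromSpecResidueField y) ht
  have hs : s ≫ f = Y.fromSpecResidueField y := H.lift_snd _ _ _
  let c := IsLocalRing.closedPoint (Y.residueField y)
  refine ⟨s c, ?_, (f.residueFieldMap (s c)).hom.injective, ?_⟩
  · show (s ≫ f) c = y
    rw [hs]
    exact Scheme.fromSpecResidueField_apply y c
  have key : ∀ φ : Spec (Y.residueField y) ⟶ Y, φ = Y.fromSpecResidueField y →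
      Function.Surjective (φ.residueFieldMap c).hom := by
    rintro φ rfl t
    obtain ⟨t, rfl⟩ := (Spec (Y.residueField y)).residue_surjective c t
    obtain ⟨v, rfl⟩ := (Y.fromSpecResidueField y).stalkMap_surjective c t
    exact ⟨(Y.residue _).hom v, (DFunLike.congr_fun (CommRingCat.hom_ext_iff.mp
      (Scheme.residue_residueFieldMap (Y.fromSpecResidueField y) c)) v)⟩
  have h2 := key _ hs
  rw [Scheme.residueFieldMap_comp] at h2
  have h3 : ∀ t, ∃ v, (s.residueFieldMap c).hom ((f.residueFieldMap (s c)).hom v) = t := h2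
  exact fun t => by
    obtain ⟨v, hv⟩ := h3 ((s.residueFieldMap c).hom t)
    exact ⟨v, (s.residueFieldMap c).hom.injective hv⟩

theorem fromSpecResidueField_eq {U : Y.Opens} (hU : IsAffineOpen U) {y : Y} (hy : y ∈ U) :
    Y.fromSpecResidueField y = Spec.map (Y.evaluation U y hy) ≫ hU.fromSpec := by
  rw [Scheme.fromSpecResidueField, ← hU.fromSpecStalk_eq_fromSpecStalk hy, IsAffineOpen.fromSpecStalk,
    ← Spec.map_comp_assoc]
  rfl

theorem evaluation_appLE {U : Y₀.Opens} {V : Y.Opens} (g : Y ⟶ Y₀) (h : V ≤ g ⁻¹ᵁ U) {y : Y} (hy : y ∈ V)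
    (a : Γ(Y₀, U)) :
    Y.evaluation V y hy (g.appLE U V h a) = g.residueFieldMap y (Y₀.evaluation U (g y) (h hy) a) := by
  rw [Scheme.evaluation_naturality_apply]
  show Y.residue y (Y.presheaf.germ V y hy ((g.app U ≫ Y.presheaf.map (homOfLE h).op) a)) =
    Y.residue y (Y.presheaf.germ (g ⁻¹ᵁ U) y (h hy) (g.app U a))
  rw [CommRingCat.comp_apply]
  exact congrArg (Y.residue y) (TopCat.Presheaf.germ_res_apply Y.presheaf (homOfLE h) y hy _)

/-- elements of a residue field of an affine scheme are fractions of evaluations -/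
theorem exists_fraction {U : Y.Opens} (hU : IsAffineOpen U) {y : Y} (hy : y ∈ U) (w : Y.residueField y) :
    ∃ a s : Γ(Y, U), Y.evaluation U y hy s ≠ 0 ∧ Y.evaluation U y hy s * w = Y.evaluation U y hy a := by
  obtain ⟨w, rfl⟩ := Y.residue_surjective y w
  letI := TopCat.Presheaf.algebra_section_stalk Y.presheaf (⟨y, hy⟩ : U)
  haveI := hU.isLocalization_stalk ⟨y, hy⟩
  obtain ⟨⟨a, s⟩, has⟩ := IsLocalization.surj (hU.primeIdealOf ⟨y, hy⟩).asIdeal.primeCompl w
  refine ⟨a, s, fun h0 => s.2 ?_, ?_⟩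
  · have e := IsAffineOpen.primeIdealOf_eq_map_closedPoint hU (⟨y, hy⟩ : U)
    exact ((congrArg (fun q : PrimeSpectrum Γ(Y, U) => (s : Γ(Y, U)) ∈ q.asIdeal) e).symm ▸
      (IsLocalRing.residue_eq_zero_iff _).mp h0 :)
  · show Y.residue y (Y.presheaf.germ U y hy s) * Y.residue y w = Y.residue y (Y.presheaf.germ U y hy a)
    rw [← map_mul, mul_comm]
    exact congrArg (Y.residue y) has

section Affine

variable {U : Y₀.Opens} (hU : IsAffineOpen U) {V : X₀.Opens} (hV : IsAffineOpen V) (hVU : V ≤ f₀ ⁻¹ᵁ U)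

include hU hV in
/-- criterion for rational points in terms of rings -/
theorem dec_of_hom {e : Y ⟶ Y₀} (he : (⊤ : Y.Opens) ≤ e ⁻¹ᵁ U) [IsAffine Y] (y : Y)
    (ψ : Γ(X₀, V) →+* Y.residueField y)
    (hψ : ∀ a, ψ (f₀.appLE U V hVU a) = Y.evaluation ⊤ y trivial (e.appLE U ⊤ he a)) : Dec f₀ e y := by
  refine ⟨Spec.map (CommRingCat.ofHom ψ) ≫ hV.fromSpec, ?_⟩
  rw [Category.assoc, ← IsAffineOpen.SpecMap_appLE_fromSpec f₀ hU hV hVU,
    fromSpecResidueField_eq (isAffineOpen_top Y) (hy := (trivial : y ∈ (⊤ : Y.Opens))), Category.assoc,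
    ← IsAffineOpen.SpecMap_appLE_fromSpec e hU (isAffineOpen_top Y) he, ← Spec.map_comp_assoc,
    ← Spec.map_comp_assoc]
  congr 2
  ext a
  exact hψ a

include hU in
/-- a rational point lands in an affine chart -/
theorem exists_hom_of_dec {e : Y ⟶ Y₀} (he : (⊤ : Y.Opens) ≤ e ⁻¹ᵁ U) [IsAffine Y] (y : Y) (h : Dec f₀ e y) :
    ∃ (V : X₀.Opens) (_ : IsAffineOpen V) (hVU : V ≤ f₀ ⁻¹ᵁ U) (ψ : Γ(X₀, V) →+* Y.residueField y),
      ∀ a, ψ (f₀.appLE U V hVU a) = Y.evaluation ⊤ y trivial (e.appLE U ⊤ he a) := by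
  obtain ⟨t, ht⟩ := h
  let c := IsLocalRing.closedPoint (Y.residueField y)
  have hx : f₀ (t c) ∈ U := by
    show (t ≫ f₀) c ∈ U
    rw [ht]
    show e (Y.fromSpecResidueField y c) ∈ U
    rw [Scheme.fromSpecResidueField_apply]
    exact he trivial
  obtain ⟨V, hV, hxV, hVU⟩ := exists_isAffineOpen_mem_and_subset (x := t c) (U := f₀ ⁻¹ᵁ U) hx
  obtain ⟨ψ, hψ⟩ : ∃ ψ : Spec (Y.residueField y) ⟶ Spec Γ(X₀, V), ψ ≫ hV.fromSpec = t := by
    refine ⟨IsOpenImmersion.lift hV.fromSpec t ?_, IsOpenImmersion.lift_fac _ _ _⟩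
    rw [hV.range_fromSpec]
    rintro _ ⟨p, rfl⟩
    rw [Subsingleton.elim p c]
    exact hxV
  refine ⟨V, hV, hVU, (Spec.preimage ψ).hom, fun a => ?_⟩
  rw [← hψ, ← Spec.map_preimage ψ, Category.assoc, ← IsAffineOpen.SpecMap_appLE_fromSpec f₀ hU hV hVU,
    fromSpecResidueField_eq (isAffineOpen_top Y) (hy := (trivial : y ∈ (⊤ : Y.Opens))), Category.assoc,
    ← IsAffineOpen.SpecMap_appLE_fromSpec e hU (isAffineOpen_top Y) he, ← Spec.map_comp_assoc,
    ← Spec.map_comp_assoc, cancel_mono, Spec.map_inj] at ht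
  exact congrArg (fun φ => φ.hom a) ht

end Affine

end Groth.Agent.CDLim
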